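import Cfsg.Prelude.Def_Local
import Cfsg.Agent.Lib.Cores.PCore

/-!
`p`-length: `PLengthLE p k G` holds iff some normal series of length `2k+1` has factors alternately
of order prime to `p` and of `p`-power order. Stability under quotients, subdirect products and
extensions.
-/

set_option autoImplicit false

namespace Cfsg.Agent.Lib.PLength

variable {G H : Type*} [Group G] [Group H] {p : ℕ}

/-- The admissible orders of the `j`-th factor. -/
def FactorOK (p j m : ℕ) : Prop :=
  (Even j → m.Coprime p) ∧ (¬ Even j → ∃ k, m = p ^ k)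

theorem FactorOK.of_dvd [hp : Fact p.Prime] {j m n : ℕ} (h : FactorOK p j m) (hd : n ∣ m) : FactorOK p j n :=
  ⟨fun hj => (h.1 hj).coprime_dvd_left hd, fun hj => by
    obtain ⟨k, rfl⟩ := h.2 hj
    obtain ⟨i, -, hi⟩ := (Nat.dvd_prime_pow hp.out).mp hd
    exact ⟨i, hi⟩⟩

theorem FactorOK.mul {j m n : ℕ} (h : FactorOK p j m) (h' : FactorOK p j n) : FactorOK p j (m * n) :=
  ⟨fun hj => (h.1 hj).mul_left (h'.1 hj), fun hj => by
    obtain ⟨a, rfl⟩ := h.2 hj
    obtain ⟨b, rfl⟩ := h'.2 hj
    exact ⟨a + b, (pow_add p a b).symm⟩⟩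

theorem factorOK_one (j : ℕ) : FactorOK p j 1 :=
  ⟨fun _ => Nat.coprime_one_left p, fun _ => ⟨0, (pow_zero p).symm⟩⟩

theorem factorOK_congr {i j m : ℕ} (h : Even i ↔ Even j) : FactorOK p i m → FactorOK p j m :=
  fun hm => ⟨fun hj => hm.1 (h.mpr hj), fun hj => hm.2 fun hi => hj (h.mp hi)⟩

/-- A normal series of length `n` with factors alternately `p'` and `p`. -/
structure IsSeries (p n : ℕ) (A : ℕ → Subgroup G) : Prop where
  zero : A 0 = ⊥
  last : A n = ⊤
  le : ∀ j, j < n → A j ≤ A (j + 1)
  normal : ∀ j, j ≤ n → (A j).Normal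
  ok : ∀ j, j < n → FactorOK p j ((A j).relIndex (A (j + 1)))

/-- The terms of the upper `p`-series. -/
abbrev term (p : ℕ) (G : Type*) [Group G] (n : ℕ) : Subgroup G := (Cfsg.upperPSeries p G n).1

theorem term_succ (p : ℕ) (G : Type*) [Group G] (n : ℕ) :
    term p G (n + 1) = if Even n then
      (Cfsg.pPrimeCore p (G ⧸ term p G n)).comap (QuotientGroup.mk' (term p G n))
    else (Cfsg.pCore p (G ⧸ term p G n)).comap (QuotientGroup.mk' (term p G n)) := by
  show (Cfsg.upperPSeries p G (n + 1)).1 = _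
  rw [Cfsg.upperPSeries]
  split <;> rfl

theorem term_le_succ (p : ℕ) (G : Type*) [Group G] (n : ℕ) : term p G n ≤ term p G (n + 1) := by
  intro x hx
  rw [term_succ]
  split <;>
  · rw [Subgroup.mem_comap, show QuotientGroup.mk' (term p G n) x = 1 from (QuotientGroup.eq_one_iff x).mpr hx]
    exact one_mem _

theorem relIndex_comap_mk' (N : Subgroup G) [N.Normal] (X : Subgroup (G ⧸ N)) :
    N.relIndex (X.comap (QuotientGroup.mk' N)) = Nat.card X := by
  have h : ((⊥ : Subgroup (G ⧸ N)).comap (QuotientGroup.mk' N)).relIndex (X.comap (QuotientGroup.mk' N)) =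
      (⊥ : Subgroup (G ⧸ N)).relIndex X := by
    rw [Subgroup.relIndex_comap, Subgroup.map_comap_eq_self_of_surjective (QuotientGroup.mk'_surjective N)]
  rwa [MonoidHom.comap_bot, QuotientGroup.ker_mk', Subgroup.relIndex_bot_left] at h

theorem term_ok [Finite G] [Fact p.Prime] (n : ℕ) :
    FactorOK p n ((term p G n).relIndex (term p G (n + 1))) := by
  rw [term_succ]
  by_cases hn : Even n
  · rw [if_pos hn, relIndex_comap_mk']
    exact ⟨fun _ => Cores.pPrimeCore_coprime p _, fun h => absurd hn h⟩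
  · rw [if_neg hn, relIndex_comap_mk']
    exact ⟨fun h => absurd h hn, fun _ => (Cores.pCore_isPGroup p _).exists_card_eq⟩

theorem isSeries_term [Finite G] [Fact p.Prime] {k : ℕ} (h : Cfsg.PLengthLE p k G) :
    IsSeries p (2 * k + 1) (term p G) :=
  ⟨rfl, h, fun j _ => term_le_succ p G j, fun j _ => (Cfsg.upperPSeries p G j).2, fun j _ => term_ok j⟩

theorem relIndex_dvd_of_le (A : Subgroup G) [A.Normal] {B C : Subgroup G} (hA : A ≤ B) (hC : C ≤ B) :
    A.relIndex C ∣ A.relIndex B := by
  have h1 : A.relIndex C = A.relIndex (C ⊔ A) := (Subgroup.relIndex_sup_right _ _).symm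
  rw [h1, ← Subgroup.relIndex_mul_relIndex A (C ⊔ A) B le_sup_right (sup_le hC hA)]
  exact dvd_mul_right _ _

theorem series_le_term [Finite G] [hp : Fact p.Prime] {n : ℕ} {A : ℕ → Subgroup G} (hA : IsSeries p n A) :
    ∀ j, j ≤ n → A j ≤ term p G j := by
  intro j
  induction j with
  | zero => intro _; rw [hA.zero]; exact bot_le
  | succ j ih =>
    intro hj
    have hle := ih (by omega)
    set f := QuotientGroup.mk' (term p G j)
    have hn : ((A (j + 1)).map f).Normal := (hA.normal _ hj).map f (QuotientGroup.mk'_surjective _)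
    have hd : Nat.card ((A (j + 1)).map f) ∣ (A j).relIndex (A (j + 1)) := by
      rw [← Subgroup.relIndex_bot_left ((A (j + 1)).map f)]
      have h1 : (A j).map f = ⊥ := by rw [Subgroup.map_eq_bot_iff, QuotientGroup.ker_mk']; exact hle
      rw [← h1, Subgroup.relIndex_map_map, QuotientGroup.ker_mk', sup_eq_right.mpr hle,
        Subgroup.relIndex_sup_right]
      exact Subgroup.relIndex_dvd_of_le_left _ hle
    have hok := (hA.ok j (by omega)).of_dvd hd
    rw [term_succ]
    by_cases hj' : Even j
    · rw [if_pos hj', ← Subgroup.map_le_iff_le_comap]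
      exact Cores.le_pPrimeCore hn (hok.1 hj')
    · rw [if_neg hj', ← Subgroup.map_le_iff_le_comap]
      obtain ⟨k, hk⟩ := hok.2 hj'
      exact Cores.le_pCore hn (IsPGroup.of_card hk)

theorem pLengthLE_of_series [Finite G] [Fact p.Prime] {k : ℕ} {A : ℕ → Subgroup G}
    (hA : IsSeries p (2 * k + 1) A) : Cfsg.PLengthLE p k G :=
  top_le_iff.mp (hA.last.ge.trans (series_le_term hA _ le_rfl))

theorem mono [Finite G] [Fact p.Prime] {k l : ℕ} (h : Cfsg.PLengthLE p k G) (hkl : k ≤ l) :
    Cfsg.PLengthLE p l G := by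
  induction hkl with
  | refl => exact h
  | @step m _ ih =>
    refine top_le_iff.mp (ih.ge.trans ?_)
    exact (term_le_succ p G (2 * m + 1)).trans (term_le_succ p G (2 * m + 2))

theorem of_coprime [Finite G] [Fact p.Prime] (h : (Nat.card G).Coprime p) (k : ℕ) :
    Cfsg.PLengthLE p k G := by
  refine mono (k := 0) ?_ (Nat.zero_le k)
  refine pLengthLE_of_series (A := fun j => if j = 0 then ⊥ else ⊤) ⟨rfl, rfl, ?_, ?_, ?_⟩
  · intro j hj
    simp only [Nat.mul_zero, zero_add, Nat.lt_one_iff] at hj
    subst hj; exact bot_le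
  · intro j _
    by_cases hj : j = 0 <;> simp only [hj, if_true, if_false] <;> infer_instance
  · intro j hj
    simp only [Nat.mul_zero, zero_add, Nat.lt_one_iff] at hj
    subst hj
    simp only [if_true, Nat.succ_ne_zero, if_false, zero_add, one_ne_zero]
    rw [Subgroup.relIndex_bot_left, Subgroup.card_top]
    exact ⟨fun _ => h, fun h0 => absurd (by simp : Even 0) h0⟩

theorem of_surjective [Finite G] [Fact p.Prime] {k : ℕ} (f : G →* H) (hf : Function.Surjective f)
    (h : Cfsg.PLengthLE p k G) : Cfsg.PLengthLE p k H := by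
  have : Finite H := Finite.of_surjective f hf
  have hA := isSeries_term h
  refine pLengthLE_of_series (A := fun j => (term p G j).map f) ⟨?_, ?_, ?_, ?_, ?_⟩
  · rw [hA.zero, Subgroup.map_bot]
  · rw [hA.last, Subgroup.map_top_of_surjective f hf]
  · exact fun j hj => Subgroup.map_mono (hA.le j hj)
  · exact fun j hj => (hA.normal j hj).map f hf
  · intro j hj
    refine (hA.ok j hj).of_dvd ?_
    have hn := hA.normal j (by omega)
    rw [Subgroup.relIndex_map_map, sup_comm (term p G (j + 1))]
    have hsn : ((term p G j) ⊔ f.ker).Normal := Subgroup.sup_normal _ _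
    have h1 : (f.ker ⊔ term p G (j + 1)) = term p G (j + 1) ⊔ (term p G j ⊔ f.ker) := by
      rw [← sup_assoc, sup_eq_left.mpr (hA.le j hj), sup_comm]
    rw [h1, Subgroup.relIndex_sup_right]
    exact Subgroup.relIndex_dvd_of_le_left _ le_sup_left

theorem of_inf_eq_bot [Finite G] [Fact p.Prime] {k : ℕ} (N M : Subgroup G) [N.Normal] [M.Normal]
    (hNM : N ⊓ M = ⊥) (hN : Cfsg.PLengthLE p k (G ⧸ N)) (hM : Cfsg.PLengthLE p k (G ⧸ M)) :
    Cfsg.PLengthLE p k G := by
  have hA := isSeries_term hN
  have hB := isSeries_term hM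
  set f := QuotientGroup.mk' N
  set g := QuotientGroup.mk' M
  refine pLengthLE_of_series (A := fun j => (term p (G ⧸ N) j).comap f ⊓ (term p (G ⧸ M) j).comap g)
    ⟨?_, ?_, ?_, ?_, ?_⟩
  · rw [hA.zero, hB.zero, MonoidHom.comap_bot, MonoidHom.comap_bot, QuotientGroup.ker_mk',
      QuotientGroup.ker_mk', hNM]
  · rw [hA.last, hB.last, Subgroup.comap_top, Subgroup.comap_top, inf_top_eq]
  · exact fun j hj => inf_le_inf (Subgroup.comap_mono (hA.le j hj)) (Subgroup.comap_mono (hB.le j hj))
  · intro j hj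
    have := (hA.normal j hj).comap f
    have := (hB.normal j hj).comap g
    exact Subgroup.normal_inf_normal _ _
  · intro j hj
    set A := (term p (G ⧸ N) j).comap f
    set A' := (term p (G ⧸ N) (j + 1)).comap f
    set B := (term p (G ⧸ M) j).comap g
    set B' := (term p (G ⧸ M) (j + 1)).comap g
    have := (hA.normal j (by omega)).comap f
    have := (hB.normal j (by omega)).comap g
    have hAA : A ≤ A' := Subgroup.comap_mono (hA.le j hj)
    have hBB : B ≤ B' := Subgroup.comap_mono (hB.le j hj)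
    have e1 : A.relIndex A' = (term p (G ⧸ N) j).relIndex (term p (G ⧸ N) (j + 1)) := by
      rw [Subgroup.relIndex_comap,
        Subgroup.map_comap_eq_self_of_surjective (QuotientGroup.mk'_surjective N)]
    have e2 : B.relIndex B' = (term p (G ⧸ M) j).relIndex (term p (G ⧸ M) (j + 1)) := by
      rw [Subgroup.relIndex_comap,
        Subgroup.map_comap_eq_self_of_surjective (QuotientGroup.mk'_surjective M)]
    have h3 : (A ⊓ B).relIndex (A' ⊓ B') =
        B.relIndex (A ⊓ (A' ⊓ B')) * A.relIndex (A' ⊓ B') := by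
      rw [← Subgroup.inf_relIndex_right (A ⊓ B), ← Subgroup.inf_relIndex_right A (A' ⊓ B'),
        ← Subgroup.inf_relIndex_right B (A ⊓ (A' ⊓ B')),
        Subgroup.relIndex_mul_relIndex _ _ _ inf_le_right inf_le_right]
      congr 1
      rw [inf_assoc, inf_left_comm]
    refine FactorOK.of_dvd ((hA.ok j hj).mul (hB.ok j hj)) ?_
    rw [← e1, ← e2, h3, mul_comm]
    exact mul_dvd_mul (relIndex_dvd_of_le A hAA inf_le_left)
      (relIndex_dvd_of_le B hBB (inf_le_right.trans inf_le_right))

theorem of_quotient_coprime [Finite G] [hp : Fact p.Prime] {k : ℕ} (N : Subgroup G) [N.Normal]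
    (hN : (Nat.card N).Coprime p) (h : Cfsg.PLengthLE p k (G ⧸ N)) : Cfsg.PLengthLE p k G := by
  have hA := isSeries_term h
  set f := QuotientGroup.mk' N
  refine pLengthLE_of_series (A := fun j => if j = 0 then ⊥ else (term p (G ⧸ N) j).comap f) ⟨?_, ?_, ?_, ?_, ?_⟩
  · simp
  · simp only [Nat.succ_ne_zero, if_false]
    rw [hA.last, Subgroup.comap_top]
  · intro j hj
    rcases eq_or_ne j 0 with rfl | hj0
    · exact bot_le
    · simp only [hj0, Nat.succ_ne_zero, if_false]
      exact Subgroup.comap_mono (hA.le j hj)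
  · intro j hj
    rcases eq_or_ne j 0 with rfl | hj0
    · simp only [if_true]; infer_instance
    · simp only [hj0, if_false]; exact (hA.normal j hj).comap f
  · intro j hj
    rcases eq_or_ne j 0 with rfl | hj0
    · simp only [if_true, Nat.succ_ne_zero, if_false]
      rw [Subgroup.relIndex_bot_left, Cores.card_comap_mk']
      have := hA.ok 0 hj
      rw [hA.zero, Subgroup.relIndex_bot_left] at this
      exact ⟨fun he => hN.mul_left (this.1 he), fun he => absurd (by simp : Even 0) he⟩
    · simp only [hj0, Nat.succ_ne_zero, if_false]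
      rw [Subgroup.relIndex_comap,
        Subgroup.map_comap_eq_self_of_surjective (QuotientGroup.mk'_surjective N)]
      exact hA.ok j hj

theorem of_quotient_isPGroup [Finite G] [hp : Fact p.Prime] {k : ℕ} (N : Subgroup G) [N.Normal]
    (hN : IsPGroup p N) (h : Cfsg.PLengthLE p k (G ⧸ N)) : Cfsg.PLengthLE p (k + 1) G := by
  have hA := isSeries_term h
  set f := QuotientGroup.mk' N
  let A : ℕ → Subgroup G := fun j => match j with
    | 0 => ⊥
    | 1 => ⊥
    | j + 2 => (term p (G ⧸ N) j).comap f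
  refine pLengthLE_of_series (A := A) ⟨rfl, ?_, ?_, ?_, ?_⟩
  · show (term p (G ⧸ N) (2 * k + 1)).comap f = ⊤
    rw [hA.last, Subgroup.comap_top]
  · intro j hj
    match j, hj with
    | 0, _ => exact le_rfl
    | 1, _ => exact bot_le
    | j + 2, hj => exact Subgroup.comap_mono (hA.le j (by omega))
  · intro j hj
    match j, hj with
    | 0, _ => exact Subgroup.normal_bot
    | 1, _ => exact Subgroup.normal_bot
    | j + 2, hj => exact (hA.normal j (by omega)).comap f
  · intro j hj
    match j, hj with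
    | 0, _ =>
      show FactorOK p 0 ((⊥ : Subgroup G).relIndex ⊥)
      rw [Subgroup.relIndex_self]; exact factorOK_one 0
    | 1, _ =>
      show FactorOK p 1 ((⊥ : Subgroup G).relIndex ((term p (G ⧸ N) 0).comap f))
      rw [hA.zero, MonoidHom.comap_bot, QuotientGroup.ker_mk', Subgroup.relIndex_bot_left]
      exact ⟨fun he => absurd he (by simp), fun _ => hN.exists_card_eq⟩
    | j + 2, hj =>
      show FactorOK p (j + 2) (((term p (G ⧸ N) j).comap f).relIndex ((term p (G ⧸ N) (j + 1)).comap f))
      rw [Subgroup.relIndex_comap,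
        Subgroup.map_comap_eq_self_of_surjective (QuotientGroup.mk'_surjective N)]
      exact factorOK_congr (by simp [parity_simps]) (hA.ok j (by omega))

theorem coprime_of_pLengthLE_zero [Finite G] [Fact p.Prime] (h : Cfsg.PLengthLE p 0 G) :
    (Nat.card G).Coprime p := by
  have hA := isSeries_term h
  have h0 := (hA.ok 0 (by omega)).1 (by simp)
  rw [hA.zero, show term p G (0 + 1) = ⊤ from hA.last, Subgroup.relIndex_bot_left, Subgroup.card_top] at h0
  exact h0

/-- If `O_{p'}(G) = 1` then factoring out `O_p(G)` lowers the `p`-length. -/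
theorem quotient_pCore [Finite G] [Fact p.Prime] (hG : Cfsg.pPrimeCore p G = ⊥) {k : ℕ}
    (h : Cfsg.PLengthLE p (k + 1) G) : Cfsg.PLengthLE p k (G ⧸ Cfsg.pCore p G) := by
  have hA := isSeries_term h
  have h2 : term p G 2 ≤ Cfsg.pCore p G := by
    have h1 : term p G 1 = ⊥ := by
      rw [← le_bot_iff, ← hG]
      refine Cores.le_pPrimeCore (hA.normal 1 (by omega)) ?_
      have := (hA.ok 0 (by omega)).1 (by simp)
      rwa [hA.zero, Subgroup.relIndex_bot_left] at this
    refine Cores.le_pCore (hA.normal 2 (by omega)) ?_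
    obtain ⟨m, hm⟩ := (hA.ok 1 (by omega)).2 (by simp)
    rw [show (1 : ℕ) + 1 = 2 from rfl, h1, Subgroup.relIndex_bot_left] at hm
    exact IsPGroup.of_card hm
  set N := Cfsg.pCore p G
  set f := QuotientGroup.mk' N
  refine pLengthLE_of_series (A := fun j => (term p G (j + 2)).map f) ⟨?_, ?_, ?_, ?_, ?_⟩
  · rw [Subgroup.map_eq_bot_iff, QuotientGroup.ker_mk']
    exact h2
  · show (term p G (2 * k + 1 + 2)).map f = ⊤
    rw [show term p G (2 * k + 1 + 2) = ⊤ from hA.last,
      Subgroup.map_top_of_surjective f (QuotientGroup.mk'_surjective N)]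
  · exact fun j hj => Subgroup.map_mono (hA.le (j + 2) (by omega))
  · exact fun j hj => (hA.normal (j + 2) (by omega)).map f (QuotientGroup.mk'_surjective N)
  · intro j hj
    refine factorOK_congr (i := j + 2) (by simp [parity_simps]) ((hA.ok (j + 2) (by omega)).of_dvd ?_)
    have hn := hA.normal (j + 2) (by omega)
    rw [Subgroup.relIndex_map_map, sup_comm (term p G (j + 1 + 2))]
    have h4 : f.ker ⊔ term p G (j + 1 + 2) =
        term p G (j + 1 + 2) ⊔ (term p G (j + 2) ⊔ f.ker) := by
      rw [← sup_assoc, sup_eq_left.mpr (hA.le (j + 2) (by omega)), sup_comm]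
    have : ((term p G (j + 2)) ⊔ f.ker).Normal := Subgroup.sup_normal _ _
    rw [h4, Subgroup.relIndex_sup_right]
    exact Subgroup.relIndex_dvd_of_le_left _ le_sup_left

end Cfsg.Agent.Lib.PLength
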